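import Cfsg.Agent.H612.PTwo.RowPlus
import Cfsg.Agent.H829.Van.OPlus
import Cfsg.Agent.H620.PNRows

/-!
# The row `PΩ⁺_{2m}(q)` of S4555 / S4559 (helper612)

* `EightRow p` : what is to be shown for `PΩ⁺₈(q)`, `p ∣ q - 1`;
* `oplus` : the field `oplus` of `H620.PNRows.LieRows`.
-/

set_option autoImplicit false

namespace Cfsg.Agent.H612.PTwo

open Cfsg Cfsg.Agent.H620.PNorm

universe u

/-- the property `P` of `PΩ⁺₈(q)`, for `p ∣ q - 1` -/
def EightRow (p : ℕ) (P : ∀ (K : Type) [Group K], Prop) : Prop :=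
  ∀ (F : Type) [Field F] [Fintype F], p ∣ Nat.card F - 1 → P (POmega F (quadFormPlus 4 F))

/-- **the row of `PΩ⁺_{2m}(q)`**, apart from `m = 4`, `p ∣ q - 1` -/
theorem oplus_or (K : Type u) [Group K] [Finite K] [IsSimpleGroup K] (p r : ℕ) (hp : p.Prime) (hr : r.Prime)
    (hpr : p ≠ r) (h : IsPOmegaPlusChar r K) (hd : p ∣ Nat.card K) :
    VOrdP p K ∨ ∃ (F : Type) (_ : Field F) (_ : Fintype F) (_ : CharP F r), p ∣ Nat.card F - 1 ∧
      Nonempty (K ≃* POmega F (quadFormPlus 4 F)) := by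
  obtain ⟨F, _, _, _, m, hm, ⟨e⟩⟩ := h
  have : Fact r.Prime := ⟨hr⟩
  have : Fact p.Prime := ⟨hp⟩
  have hd' : p ∣ Nat.card (POmega F (quadFormPlus m F)) := by rwa [← Nat.card_congr e.toEquiv]
  by_cases h1 : p ∣ Nat.card F - 1
  · rcases Nat.lt_or_ge 4 m with h5 | h5
    · exact Or.inl (VOrdP.mulEquiv (row_plus h5 hp h1) e.symm)
    · obtain rfl : m = 4 := le_antisymm h5 hm
      exact Or.inr ⟨F, inferInstance, inferInstance, inferInstance, h1, ⟨e⟩⟩
  · left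
    refine VOrdP.mulEquiv ?_ e.symm
    have hp2 : p ≠ 2 := by
      rintro rfl
      have hq : ¬ 2 ∣ Nat.card F := fun h2 => Cfsg.Agent.H477.HC.ne_card F (p := r) hp hpr h2
      have hq1 : 1 < Nat.card F := Finite.one_lt_card
      omega
    exact H620.PNRows.vOrdP_of_kill (H829.Van.kill_plus F (r := r) hm hp hp2 hpr h1) hd'

/-- **the row of `PΩ⁺_{2m}(q)`**, elements of order `p` -/
theorem oplus_ord {p : ℕ} (h8 : EightRow p (fun K _ => VOrdP p K)) (K : Type u) [Group K] [Finite K] [IsSimpleGroup K]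
    (r : ℕ) (hp : p.Prime) (hr : r.Prime) (hpr : p ≠ r) (h : IsPOmegaPlusChar r K) (hd : p ∣ Nat.card K) :
    VOrdP p K := by
  rcases oplus_or K p r hp hr hpr h hd with h | ⟨F, _, _, _, h1, ⟨e⟩⟩
  · exact h
  · exact VOrdP.mulEquiv (h8 F h1) e.symm

/-- **the row of `PΩ⁺_{2m}(q)`**, elements of order a power of `p` -/
theorem oplus_pow {p : ℕ} (h8 : EightRow p (fun K _ => VPow p K)) (K : Type u) [Group K] [Finite K] [IsSimpleGroup K]
    (r : ℕ) (hp : p.Prime) (hr : r.Prime) (hpr : p ≠ r) (h : IsPOmegaPlusChar r K) (hd : p ∣ Nat.card K) :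
    VPow p K := by
  rcases oplus_or K p r hp hr hpr h hd with h | ⟨F, _, _, _, h1, ⟨e⟩⟩
  · exact h.vPow
  · exact VPow.mulEquiv (h8 F h1) e.symm

end Cfsg.Agent.H612.PTwo
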